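import Mathlib
import Cfsg.Agent.H360.Dp.Base

/-!
# The groups with the order and the element orders of `PΩ⁺(8, q)`, `q ≥ 7` odd: what is used (helper200)
-/

set_option autoImplicit false

namespace Cfsg.Agent.H200.DF

open Module Cfsg Cfsg.Agent.H902 Cfsg.Agent.H364 Cfsg.Agent.H364.SpCyc
open Cfsg.Agent.H72.AdjOrth
open Cfsg.Agent.H420.QR (OddM eta_spec)
open Cfsg.Agent.LieClassical.OmegaReindex Cfsg.Agent.H150

universe u v

/-- what is used of a group with the order and the element orders of `PΩ⁺(8, q)`, `q = p ^ f` -/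
structure HyF (G : Type u) [Group G] (p f : ℕ) : Prop where
  big : 7 ≤ p ^ f
  hp2 : p ≠ 2
  hY : Art.Real (.D 4) p f (Nat.card G)
  nadj : ∀ r s : ℕ, r.Prime → s.Prime → r ≠ 2 → s ≠ 2 → r ≠ s → ¬ r ∣ p ^ f → ¬ s ∣ p ^ f →
    4 < eta (ee (p ^ f) r) + eta (ee (p ^ f) s) → ¬ OddM (ee (p ^ f) r) (ee (p ^ f) s) → NoEdge G r s
  nadjp : ∀ r : ℕ, r.Prime → r ≠ 2 → r ≠ p → eta (ee (p ^ f) r) = 3 → NoEdge G r p
  cyc : ∀ r : ℕ, r.Prime → r ≠ 2 → ¬ r ∣ p ^ f → eta (ee (p ^ f) r) = 3 →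
    ∃ x : G, orderOf x = r ^ (Nat.card G).factorization r
  cyc4 : ∀ r : ℕ, r.Prime → r ≠ 2 → ee (p ^ f) r = 4 → ∃ x : G, orderOf x = Art.P r ((p ^ f) ^ 2 + 1)
  far : Far G

variable {F : Type v} [Field F] [Fintype F]

/-- **The hypotheses hold** for a group with the order and the element orders of `PΩ⁺(8, q)`. -/
theorem HyF.of {G : Type u} [Group G] {p f : ℕ} (hp : p.Prime) (hf : 1 ≤ f) (hF : Fintype.card F = p ^ f)
    (hbig : 7 ≤ p ^ f) (hp2 : p ≠ 2)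
    (hspec : ∀ x : G, ∃ y : POmega F (quadFormPlus 4 F), orderOf y = orderOf x)
    (hspec' : ∀ y : POmega F (quadFormPlus 4 F), ∃ x : G, orderOf x = orderOf y)
    (hcard : Nat.card G = Nat.card (POmega F (quadFormPlus 4 F))) (hfar : Far (POmega F (quadFormPlus 4 F))) :
    HyF G p f := by
  have hpF : Fact p.Prime := ⟨hp⟩
  have hchar : CharP F p := by
    obtain ⟨ℓ, hchar⟩ := CharP.exists F
    have hl : Fact ℓ.Prime := ⟨CharP.char_is_prime F ℓ⟩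
    obtain ⟨m, hm, hcard⟩ := FiniteField.card F ℓ
    rw [hF] at hcard
    have h1 : ℓ ∣ p ^ f := by rw [hcard]; exact dvd_pow_self ℓ m.ne_zero
    have h3 : ℓ = p := (Nat.prime_dvd_prime_iff_eq hm hp).1 (hm.dvd_of_dvd_pow h1)
    subst h3
    exact hchar
  have hY : Art.Real (.D 4) p f (Nat.card G) := by rw [hcard]; exact H360.Dp.oplus_real hp hf hF le_rfl
  refine ⟨hbig, hp2, hY, ?_, ?_, ?_, ?_, ?_⟩
  · intro r s hr hs hr2 hs2 hrs hrq hsq h ho x hx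
    obtain ⟨y, hy⟩ := hspec x
    rw [← hF] at hrq hsq h ho
    exact H360.Dp.plus_nonadj (by omega) hr hs hr2 hs2 hrs hrq hsq h ho ⟨y, hy.trans hx⟩
  · intro r hr hr2 hrp h x hx
    obtain ⟨y, hy⟩ := hspec x
    have key : ∀ Q : QuadraticForm F (Fin 4 ⊕ Fin 4 → F), (QuadraticMap.polarBilin Q).Nondegenerate →
        (∃ u : Fin 4 ⊕ Fin 4 → F, u ≠ 0 ∧ Q u = 0) → NoEdge (POmega F ⇑Q) r p := fun Q hQ hu =>
      OrthUnip.pomega_noEdge p Q hQ (n := 4) (by omega) (by simp) hu hr hrp hr2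
        (k := ee (p ^ f) r) (by rw [Nat.card_eq_fintype_card, hF]; rfl) (eta_spec _) (Or.inr h)
    have h2 := key (quadPlus 4 F) quadPlus_nondegenerate (quadPlus_sing (by omega))
    rw [coe_quadPlus] at h2
    exact h2 y (hy.trans hx)
  · intro r hr hr2 hrq h1
    have h3 := H360.Dp.P_dvd hY le_rfl (by decide) hr hr2 hrq (by rw [h1]; norm_num) (by rw [h1]; norm_num)
    have hrpos := ee_pos hr hrq
    rw [← hF, ← Nat.card_eq_fintype_card] at h3 hrpos h1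
    have h4 := elt_extend (elt_tn hrpos h3) (sg_pm _) (Or.inl rfl : (1 : ℤ) = 1 ∨ (1 : ℤ) = -1) (m := 4) (by omega)
    obtain ⟨y, hy⟩ := (Cfsg.Agent.H377.Elt.two (by omega)
      ((hr.odd_of_ne_two hr2).pow : Odd (Art.P r (Nat.card G))) h4).plus (by omega)
    obtain ⟨x, hx⟩ := hspec' y
    exact ⟨x, hx.trans hy⟩
  · intro r hr hr2 h1
    have h3 : Art.P r ((p ^ f) ^ 2 + 1) ∣ tn (p ^ f) 4 := by
      have h5 : tn (p ^ f) 4 = (p ^ f) ^ 2 + 1 := by
        rw [tn, if_pos (by decide)]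
      rw [h5]
      exact Nat.ordProj_dvd _ _
    rw [← hF, ← Nat.card_eq_fintype_card] at h3
    have h4 := elt_extend (elt_tn (by norm_num) h3) (sg_pm _) (Or.inl rfl : (1 : ℤ) = 1 ∨ (1 : ℤ) = -1) (m := 4)
      (by show eta 4 < 4; decide)
    obtain ⟨y, hy⟩ := (Cfsg.Agent.H377.Elt.two (by omega)
      ((hr.odd_of_ne_two hr2).pow : Odd (Art.P r ((Nat.card F) ^ 2 + 1))) h4).plus (by omega)
    obtain ⟨x, hx⟩ := hspec' y
    refine ⟨x, hx.trans (hy.trans ?_)⟩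
    rw [Nat.card_eq_fintype_card, hF, Art.P]
  · obtain ⟨r, hr, hr2, hd, h⟩ := hfar
    refine ⟨r, hr, hr2, by rwa [hcard], fun x hx => ?_⟩
    obtain ⟨y, hy⟩ := hspec x
    exact h y (hy.trans hx)

end Cfsg.Agent.H200.DF
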