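import Mathlib
import Cfsg.Agent.H200.DF.Base
import Cfsg.Agent.H200.DF.Arith
import Cfsg.Agent.H360.Dp.Red

/-!
# The groups with the order and the element orders of `PΩ⁺(8, q)`, `q ≥ 7` odd: the reduction (helper200)
-/

set_option autoImplicit false

namespace Cfsg.Agent.H200.DF

open Subgroup Cfsg Cfsg.Agent.H902 Cfsg.Agent.H364 Cfsg.Agent.H364.SpCyc Cfsg.Agent.H364.ArithU
open Cfsg.Agent.H72.AdjOrth
open Cfsg.Agent.H420.QR (OddM Red IsCoq)
open Cfsg.Agent.H150 Cfsg.Agent.H360.Dp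
open scoped commutatorElement

universe u v

theorem eta_three_cases {k : ℕ} (h : eta k = 3) : k = 3 ∨ k = 6 := by
  rw [eta] at h
  split_ifs at h with h1
  · obtain ⟨j, hj⟩ := h1; omega
  · omega

theorem not_oddM_of {k l : ℕ} (h : (k = 3 ∨ k = 6) ∧ (l = 3 ∨ l = 6 ∨ l = 4)) (hne : k ≠ l) : ¬ OddM k l := by
  rintro ⟨t, ⟨s, rfl⟩, h1⟩
  rcases h with ⟨rfl | rfl, rfl | rfl | rfl⟩ <;> omega

/-- the primes of the classes `3` and `6` -/
structure Big (p f r : ℕ) : Prop where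
  prime : r.Prime
  ne_two : r ≠ 2
  not_dvd : ¬ r ∣ p ^ f
  eta : eta (ee (p ^ f) r) = 3

/-- the primes of the class `4` -/
structure Mid (p f r : ℕ) : Prop where
  prime : r.Prime
  ne_two : r ≠ 2
  not_dvd : ¬ r ∣ p ^ f
  ee : ee (p ^ f) r = 4

variable {G : Type u} [Group G] {p f : ℕ}

theorem HyF.hp (h : HyF G p f) : p.Prime := h.hY.hp

theorem HyF.hf (h : HyF G p f) : 1 ≤ f := h.hY.hf

theorem HyF.odd (h : HyF G p f) : Odd (p ^ f) := (h.hp.odd_of_ne_two h.hp2).pow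

theorem HyF.exists_cls (h : HyF G p f) {k : ℕ} (hk : 3 ≤ k) : ∃ r, Cls p f k r := by
  have h2 : 3 ≤ f * k := hk.trans (Nat.le_mul_of_pos_left _ h.hf)
  obtain ⟨r, hr, hrp, hro⟩ := exists_ppd (p := p) (n := f * k) h.hp h2 (fun h3 => h.hp2 h3.1)
  exact ⟨r, hr, hrp, hro⟩

theorem HyF.ne_two_of (h : HyF G p f) {k r : ℕ} (hr : Cls p f k r) (hk3 : 3 ≤ k) : r ≠ 2 := by
  have h3 : k ≤ f * k := Nat.le_mul_of_pos_left _ h.hf
  exact ne_two_of_order (by omega) hr.ord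

theorem HyF.big_of (h : HyF G p f) {k r : ℕ} (hr : Cls p f k r) (hk : k = 3 ∨ k = 6) : Big p f r := by
  have h4 := ee_of_order h.hf hr.ord
  refine ⟨hr.prime, h.ne_two_of hr (by omega), h.hY.not_dvd_q hr.prime hr.ne_p, ?_⟩
  rw [h4]
  rcases hk with rfl | rfl <;> decide

theorem HyF.mid_of (h : HyF G p f) {r : ℕ} (hr : Cls p f 4 r) : Mid p f r :=
  ⟨hr.prime, h.ne_two_of hr (by omega), h.hY.not_dvd_q hr.prime hr.ne_p, ee_of_order h.hf hr.ord⟩

theorem HyF.big_of_B36 (h : HyF G p f) {r : ℕ} (hr : r.Prime) (hd : r ∣ B36 (p ^ f)) : Big p f r := by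
  have hq := h.hY.q_ge
  refine ⟨hr, ne_two_of_B36 hd, ?_, eta_of_B36 hq h.odd hr hd⟩
  intro h1
  have h2 : r ∣ (p ^ f) ^ 4 + (p ^ f) ^ 2 + 1 := hd.trans (B36_dvd _)
  have h3 : r ∣ (p ^ f) ^ 4 + (p ^ f) ^ 2 := (dvd_pow h1 (by norm_num)).add (dvd_pow h1 (by norm_num))
  exact hr.one_lt.ne' (Nat.dvd_one.1 ((Nat.dvd_add_right h3).1 h2))

theorem HyF.mid_of_A4 (h : HyF G p f) {r : ℕ} (hr : r.Prime) (hd : r ∣ A4 (p ^ f)) : Mid p f r := by
  have hq := h.hY.q_ge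
  refine ⟨hr, ne_two_of_A4 h.odd hd, ?_, ee_of_A4 hq h.odd hr hd⟩
  intro h1
  have h2 : r ∣ (p ^ f) ^ 2 + 1 := hd.trans (by rw [← two_A4 h.odd]; exact Dvd.intro_left _ rfl)
  exact hr.one_lt.ne' (Nat.dvd_one.1 ((Nat.dvd_add_right (dvd_pow h1 (by norm_num))).1 h2))

/-- large primes of different classes are not adjacent -/
theorem HyF.noEdge (h : HyF G p f) {r s : ℕ} (hr : Big p f r) (hs : Big p f s)
    (hne : H72.AdjOrth.ee (p ^ f) r ≠ H72.AdjOrth.ee (p ^ f) s) : NoEdge G r s :=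
  h.nadj r s hr.prime hs.prime hr.ne_two hs.ne_two (fun e => hne (by rw [e])) hr.not_dvd hs.not_dvd
    (by rw [hr.eta, hs.eta]; norm_num) (not_oddM_of ⟨eta_three_cases hr.eta, by
      have := eta_three_cases hs.eta; tauto⟩ hne)

theorem HyF.noEdge4 (h : HyF G p f) {r s : ℕ} (hr : Big p f r) (hs : Mid p f s) : NoEdge G r s := by
  have h1 := eta_three_cases hr.eta
  have hne : H72.AdjOrth.ee (p ^ f) r ≠ H72.AdjOrth.ee (p ^ f) s := by rw [hs.ee]; omega
  refine h.nadj r s hr.prime hs.prime hr.ne_two hs.ne_two (fun e => hne (by rw [e])) hr.not_dvd hs.not_dvd ?_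
    (not_oddM_of ⟨h1, Or.inr (Or.inr hs.ee)⟩ hne)
  rw [hr.eta, hs.ee]
  decide

theorem HyF.dvd_card_of (h : HyF G p f) {r : ℕ} (hr : r.Prime) (hr2 : r ≠ 2) (hrq : ¬ r ∣ p ^ f)
    (h3 : H72.AdjOrth.eta (H72.AdjOrth.ee (p ^ f) r) ≤ 3) : r ∣ Nat.card G := by
  have hq := h.hY.q_ge
  apply h.hY.dvd_of_dvd_num hr
  · intro h1
    have h2 : r ∣ 2 ^ 2 := h1.trans (Nat.gcd_dvd_left _ _)
    exact hr2 ((Nat.prime_dvd_prime_iff_eq hr Nat.prime_two).1 (hr.dvd_of_dvd_pow h2))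
  · exact (dvd_AA (by omega) hr hrq (m := 3) h3).mul_left _

theorem HyF.dvd_card (h : HyF G p f) {r : ℕ} (hr : Big p f r) : r ∣ Nat.card G :=
  h.dvd_card_of hr.prime hr.ne_two hr.not_dvd hr.eta.le

theorem HyF.dvd_card4 (h : HyF G p f) {r : ℕ} (hr : Mid p f r) : r ∣ Nat.card G :=
  h.dvd_card_of hr.prime hr.ne_two hr.not_dvd (by rw [hr.ee]; decide)

variable [Finite G]

/-- the coclique -/
theorem HyF.coq (h : HyF G p f) {a b c : ℕ} (hA : Big p f a) (hB : Mid p f b) (hC : Big p f c)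
    (h1 : H72.AdjOrth.ee (p ^ f) a = 6) (h3 : H72.AdjOrth.ee (p ^ f) c = 3) :
    IsCoq G {a, b, c} ∧ ({a, b, c} : Finset ℕ).card = 3 := by
  have h2 := hB.ee
  have n1 := h.noEdge4 hA hB
  have n2 := h.noEdge hA hC (by rw [h1, h3]; norm_num)
  have n3 := h.noEdge4 hC hB
  have hab : a ≠ b := fun e => by rw [e, h2] at h1; omega
  have hac : a ≠ c := fun e => by rw [e, h3] at h1; omega
  have hbc : b ≠ c := fun e => by rw [e, h3] at h2; omega
  refine ⟨⟨?_, ?_, ?_⟩, ?_⟩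
  · intro r hr
    simp only [Finset.mem_insert, Finset.mem_singleton] at hr
    rcases hr with rfl | rfl | rfl
    · exact hA.prime
    · exact hB.prime
    · exact hC.prime
  · intro r hr
    simp only [Finset.mem_insert, Finset.mem_singleton] at hr
    rcases hr with rfl | rfl | rfl
    · exact h.dvd_card hA
    · exact h.dvd_card4 hB
    · exact h.dvd_card hC
  · intro r hr s hs hrs
    simp only [Finset.mem_insert, Finset.mem_singleton] at hr hs
    rintro ⟨x, hx⟩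
    rcases hr with rfl | rfl | rfl <;> rcases hs with rfl | rfl | rfl
    · exact hrs rfl
    · exact n1 x hx
    · exact n2 x hx
    · exact n1.symm x hx
    · exact hrs rfl
    · exact n3.symm x hx
    · exact n2.symm x hx
    · exact n3 x hx
    · exact hrs rfl
  · rw [Finset.card_insert_of_notMem, Finset.card_insert_of_notMem, Finset.card_singleton]
    · simpa using hbc
    · simp only [Finset.mem_insert, Finset.mem_singleton, not_or]
      exact ⟨hab, hac⟩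

/-- primes of the three classes -/
theorem HyF.exists_abc (h : HyF G p f) : ∃ a b c, Big p f a ∧ Mid p f b ∧ Big p f c ∧
    H72.AdjOrth.ee (p ^ f) a = 6 ∧ H72.AdjOrth.ee (p ^ f) c = 3 := by
  obtain ⟨a, ha⟩ := h.exists_cls (k := 6) (by norm_num)
  obtain ⟨b, hb⟩ := h.exists_cls (k := 4) (by norm_num)
  obtain ⟨c, hc⟩ := h.exists_cls (k := 3) (by norm_num)
  exact ⟨a, b, c, h.big_of ha (Or.inr rfl), h.mid_of hb, h.big_of hc (Or.inl rfl), ee_of_order h.hf ha.ord,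
    ee_of_order h.hf hc.ord⟩

/-- **The reduction.** -/
theorem HyF.exists_red (h : HyF G p f) :
    ∃ (K : Subgroup G) (_ : K.Normal) (S : Subgroup (G ⧸ K)) (_ : S.Normal), Red G K S := by
  obtain ⟨a, b, c, ha, hb, hc, e1, e3⟩ := h.exists_abc
  obtain ⟨h1, h2⟩ := h.coq ha hb hc e1 e3
  obtain ⟨r, hr, hr2, hd, hx⟩ := h.far
  exact Cfsg.Agent.H420.QR.exists_red h1 h2.ge ⟨r, hr, hr2, hd, fun ⟨x, hx'⟩ => hx x hx'⟩

variable {K : Subgroup G} [K.Normal] {S : Subgroup (G ⧸ K)} [S.Normal]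

/-- the primes of the classes `3` and `6` do not divide `|K|` -/
theorem HyF.not_dvd_K (h : HyF G p f) (R : Red G K S) {r : ℕ} (hr : Big p f r) : ¬ r ∣ Nat.card K := by
  intro hrK
  have hs := R.simple
  have hcomm := comm_eq S R.nonab
  have key0 : ∀ s, s.Prime → r ≠ s → NoEdge G r s → ¬ s ∣ Nat.card S := by
    intro s hs hne hno hsS
    obtain ⟨x, hx⟩ := CycFrat.exists_orderOf_mul K hr.prime hs hne
      (h.cyc r hr.prime hr.ne_two hr.not_dvd hr.eta) hrK S hcomm hsS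
    exact hno x hx
  obtain ⟨a, b, c, ha, hb, hc, e1, e3⟩ := h.exists_abc
  obtain ⟨h1, h2⟩ := h.coq ha hb hc e1 e3
  have e2 := hb.ee
  have e0 := eta_three_cases hr.eta
  have key : ∀ s, Big p f s → H72.AdjOrth.ee (p ^ f) r ≠ H72.AdjOrth.ee (p ^ f) s → ¬ s ∣ Nat.card S :=
    fun s hs hne => key0 s hs.prime (fun e => hne (by rw [e])) (h.noEdge hr hs hne)
  have kb : ¬ b ∣ Nat.card S := key0 b hb.prime (fun e => by
    rw [e, e2] at e0; omega) (h.noEdge4 hr hb)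
  have hab : a ≠ b := fun e => by rw [e, e2] at e1; omega
  have hbc : b ≠ c := fun e => by rw [e, e3] at e2; omega
  have hma : a ∈ ({a, b, c} : Finset ℕ) := by simp
  have hmb : b ∈ ({a, b, c} : Finset ℕ) := by simp
  have hmc : c ∈ ({a, b, c} : Finset ℕ) := by simp
  by_cases hra : H72.AdjOrth.ee (p ^ f) r = 6
  · exact hbc (R.coc h1 h2.ge hmb hmc kb (key c hc (by rw [hra, e3]; norm_num)))
  · exact hab (R.coc h1 h2.ge hma hmb (key a ha (by rw [e1]; exact hra)) kb)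

omit [Finite G] in
theorem HyF.fact_B36 (h : HyF G p f) {r : ℕ} (hr : r.Prime) (hd : r ∣ B36 (p ^ f)) :
    (B36 (p ^ f)).factorization r ≤ (Nat.card G).factorization r := by
  have hB := h.big_of_B36 hr hd
  have hq := h.hY.q_ge
  have h1 : B36 (p ^ f) ∣ Art.dd (.D 4) (p ^ f) * Nat.card G := by
    rw [h.hY.eq]
    exact ((Dvd.intro_left _ rfl : B36 (p ^ f) ∣ TT (p ^ f)).trans (TT_dvd (by omega) h.odd)).mul_left _
  have h2 : Nat.Coprime (B36 (p ^ f)) (Art.dd (.D 4) (p ^ f)) := by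
    apply Nat.Coprime.coprime_dvd_right (Nat.gcd_dvd_left _ _)
    show Nat.Coprime _ (2 ^ 2)
    exact Nat.Coprime.pow_right _ (Nat.coprime_two_right.2 (B36_odd _))
  exact (Nat.factorization_le_iff_dvd (B36_odd _).pos.ne' h.hY.M_ne).2 (h2.dvd_of_dvd_mul_left h1) r

/-- the primes of the class `4` do not divide `|K|` -/
theorem HyF.not_dvd_K4 (h : HyF G p f) (R : Red G K S) {r : ℕ} (hr : Mid p f r) : ¬ r ∣ Nat.card K := by
  intro hrK
  have hq := h.hY.q_ge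
  set m := (Nat.card K).factorization r with hm
  have hm1 : 1 ≤ m := (hr.prime.factorization_pos_of_dvd Nat.card_pos.ne' hrK)
  have h1 : B36 (p ^ f) ∣ r ^ m - 1 := by
    apply (Nat.dvd_iff_prime_pow_dvd_dvd _ _).2
    intro s k hs hk
    rcases Nat.eq_zero_or_pos k with rfl | hk0
    · simp
    have hsd : s ∣ B36 (p ^ f) := (dvd_pow_self s (by omega)).trans hk
    have hB := h.big_of_B36 hs hsd
    have h2 := congr_one K hs hr.prime (fun e => by
      have h3 := eta_three_cases hB.eta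
      rw [e, hr.ee] at h3; omega) (h.not_dvd_K R hB) (h.noEdge4 hB hr)
    refine (pow_dvd_pow s ?_).trans h2
    refine le_trans ?_ (h.fact_B36 hs hsd)
    exact (hs.pow_dvd_iff_le_factorization (B36_odd _).pos.ne').1 hk
  have h2 : r ^ m ≤ Art.P r (Nat.card G) := by
    rw [Art.P]
    apply Nat.pow_le_pow_right hr.prime.pos
    exact (Nat.factorization_le_iff_dvd Nat.card_pos.ne' Nat.card_pos.ne').2 (Subgroup.card_subgroup_dvd_card K) r
  rw [P_A4 h.hY h.hp2 hr.prime hr.ne_two hr.ee] at h2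
  have h3 : Art.P r ((p ^ f) ^ 2 + 1) ≤ A4 (p ^ f) :=
    Nat.le_of_dvd (A4_odd h.odd).pos (P_le_A4 h.odd hr.prime hr.ne_two)
  have h4 : 2 ≤ r ^ m := hr.prime.two_le.trans (Nat.le_self_pow (by omega) r)
  have h5 := Nat.le_of_dvd (by omega) h1
  have h6 := B36_ge (p ^ f)
  have h7 := two_A4 h.odd
  have h8 : Art.P r ((p ^ f) ^ 2 + 1) ^ 2 ≤ A4 (p ^ f) ^ 2 := Nat.pow_le_pow_left h3 2
  have h9 : 4 * A4 (p ^ f) ^ 2 = ((p ^ f) ^ 2 + 1) ^ 2 := by rw [← h7]; ring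
  have h10 : ((p ^ f) ^ 2 + 1) ^ 2 = (p ^ f) ^ 4 + 2 * (p ^ f) ^ 2 + 1 := by ring
  have h11 : 7 ^ 2 ≤ (p ^ f) ^ 2 := Nat.pow_le_pow_left h.big 2
  have h12 : (p ^ f) ^ 2 * 7 ^ 2 ≤ (p ^ f) ^ 4 := by
    calc (p ^ f) ^ 2 * 7 ^ 2 ≤ (p ^ f) ^ 2 * (p ^ f) ^ 2 := Nat.mul_le_mul_left _ h11
      _ = _ := by ring
  omega

/-- **The data of the simple factor.** -/
theorem HyF.TT_dvd (h : HyF G p f) (R : Red G K S) : TT (p ^ f) ∣ S.index * Nat.card S := by
  have hq := h.hY.q_ge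
  have h1 : TT (p ^ f) ∣ Art.dd (.D 4) (p ^ f) * Nat.card G := by
    rw [h.hY.eq]
    exact (DF.TT_dvd (by omega) h.odd).mul_left _
  have h2 : Nat.Coprime (TT (p ^ f)) (Art.dd (.D 4) (p ^ f)) := by
    apply Nat.Coprime.coprime_dvd_right (Nat.gcd_dvd_left _ _)
    show Nat.Coprime _ (2 ^ 2)
    exact Nat.Coprime.pow_right _ (Nat.coprime_two_right.2 (TT_odd h.odd))
  have h3 := h2.dvd_of_dvd_mul_left h1
  rw [card_eq (K := K) (S := S)] at h3
  refine Nat.Coprime.dvd_of_dvd_mul_left ?_ h3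
  rw [Nat.coprime_iff_gcd_eq_one]
  by_contra hne
  obtain ⟨r, hr, hrd⟩ := Nat.exists_prime_and_dvd hne
  have h4 : r ∣ Nat.card K := hrd.trans (Nat.gcd_dvd_right _ _)
  rcases TT_cases hr (hrd.trans (Nat.gcd_dvd_left _ _)) with h5 | h5
  · exact h.not_dvd_K4 R (h.mid_of_A4 hr h5) h4
  · exact h.not_dvd_K R (h.big_of_B36 hr h5) h4

/-- the `p`-part of `|K|` -/
theorem HyF.exists_j (h : HyF G p f) (R : Red G K S) : ∃ j, (Nat.card K).factorization p = f * 6 * j := by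
  obtain ⟨a, ha⟩ := h.exists_cls (k := 6) (by norm_num)
  have hA := h.big_of ha (Or.inr rfl)
  have h1 := h.not_dvd_K R hA
  have h2 := h.nadjp a hA.prime hA.ne_two ha.ne_p hA.eta
  have h3 := congr_one K hA.prime h.hp ha.ne_p h1 h2
  have h4 : a ∣ p ^ (Nat.card K).factorization p - 1 := by
    refine (dvd_pow_self a ?_).trans h3
    exact (hA.prime.factorization_pos_of_dvd Nat.card_pos.ne' (h.dvd_card hA)).ne'
  rw [Cfsg.Agent.Lib.Zsigmondy.dvd_pow_sub_one_iff h.hp.one_le, ha.ord] at h4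
  obtain ⟨j, hj⟩ := h4
  exact ⟨j, hj⟩

theorem HyF.fac_eq (h : HyF G p f) {j : ℕ} (hj : (Nat.card K).factorization p = f * 6 * j) :
    f * 6 * j + (S.index.factorization p + (Nat.card S).factorization p) = f * 12 := by
  have h1 := fac_self h.hY
  have h2 : Art.NN (.D 4) = 12 := rfl
  rw [h2, card_eq (K := K) (S := S), Nat.factorization_mul Nat.card_pos.ne'
    (Nat.mul_ne_zero Subgroup.index_ne_zero_of_finite Nat.card_pos.ne'), Finsupp.add_apply,
    Nat.factorization_mul Subgroup.index_ne_zero_of_finite Nat.card_pos.ne', Finsupp.add_apply, hj] at h1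
  exact h1

end Cfsg.Agent.H200.DF
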