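import Mathlib
import Cfsg.Agent.H200.DF.Cross
import Cfsg.Agent.H200.DF.MatV

/-!
# `PΩ⁺(8, q)`, `q ≥ 7` odd: no simple groups of Lie type in cross characteristic, except `L₂` (helper200)
-/

set_option autoImplicit false

namespace Cfsg.Agent.H200.DF

open Subgroup Cfsg Cfsg.Agent.OrdDiv Cfsg.Agent.H902 Cfsg.Agent.H902.Names Cfsg.Agent.H364
open Cfsg.Agent.H72.AdjOrth
open Cfsg.Agent.H420.QR (Red)
open Cfsg.Agent.H360.Dp

universe u

variable {G : Type u} [Group G] [Finite G] {p f : ℕ} {K : Subgroup G} [K.Normal] {S : Subgroup (G ⧸ K)} [S.Normal]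

/-- an element of order prime to `|K|` -/
theorem orderOf_mk {x : G} (h : Nat.Coprime (orderOf x) (Nat.card K)) : orderOf (x : G ⧸ K) = orderOf x := by
  apply Nat.dvd_antisymm
  · exact orderOf_map_dvd (QuotientGroup.mk' K) x
  · apply orderOf_dvd_of_pow_eq_one
    have h1 : x ^ orderOf (x : G ⧸ K) ∈ K := by
      rw [← QuotientGroup.eq_one_iff, QuotientGroup.mk_pow, pow_orderOf_eq_one]
    have h2 : orderOf (x ^ orderOf (x : G ⧸ K)) ∣ Nat.card K := by
      have := orderOf_dvd_natCard (⟨_, h1⟩ : K)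
      rwa [← orderOf_coe] at this
    have h3 := Nat.Coprime.eq_one_of_dvd (Nat.Coprime.coprime_dvd_left (orderOf_pow_dvd _) h) h2
    rwa [orderOf_eq_one_iff] at h3

/-- the power in the normal subgroup -/
theorem pow_mem_of {A : Type*} [Group A] [Finite A] {T : Subgroup A} [T.Normal] {v b : ℕ} (hv : v.Prime) {y : A}
    (hy : orderOf y = v ^ b) : y ^ v ^ T.index.factorization v ∈ T := by
  rw [← QuotientGroup.eq_one_iff, QuotientGroup.mk_pow, ← orderOf_dvd_iff_pow_eq_one]
  have h1 : orderOf (y : A ⧸ T) ∣ v ^ b := hy ▸ orderOf_map_dvd (QuotientGroup.mk' T) y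
  obtain ⟨k, -, hk⟩ := (Nat.dvd_prime_pow hv).1 h1
  rw [hk]
  apply pow_dvd_pow
  have h2 : v ^ k ∣ T.index := by
    rw [← hk, index]
    exact orderOf_dvd_natCard _
  exact (hv.pow_dvd_iff_le_factorization index_ne_zero_of_finite).1 h2

/-- **No simple group of Lie type in cross characteristic, except `L₂`.** -/
theorem HyF.cross_false (h : HyF G p f) (R : Red G K S) {gr : Grp} {X : Art.Sh} {v g : ℕ} (hg : IsLie gr X v g)
    (hreal : OrdDiv.Real gr S) (hX : Art.Real X v g (Nat.card S)) (hX2 : X ≠ .L 2) (hvp : v ≠ p)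
    (hc : CrF p f (Nat.card G) X v g (Nat.card S) S.index) : False := by
  have hv := hX.hp
  have hq := h.hY.q_ge
  have hA := hc.mid
  have hM := h.mid_of_A4 hv hA
  have hF := Fact.mk hv
  -- `v ≥ 5`
  have h5 : 5 ≤ v := by
    have hq0 : ((p ^ f : ℕ) : ZMod v) ≠ 0 := fun h0 => hM.not_dvd ((ZMod.natCast_eq_zero_iff _ _).1 h0)
    have h1 : ee (p ^ f) v ∣ v - 1 := orderOf_dvd_of_pow_eq_one (ZMod.pow_card_sub_one_eq_one hq0)
    rw [hM.ee] at h1
    have := hv.two_le
    have := Nat.le_of_dvd (by omega) h1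
    omega
  obtain ⟨x, hx⟩ := h.cyc4 v hv hM.ne_two hM.ee
  have hvK : ¬ v ∣ Nat.card K := h.not_dvd_K4 R hM
  set b := ((p ^ f) ^ 2 + 1).factorization v with hb
  set c := S.index.factorization v with hcd
  have hx' : orderOf (x : G ⧸ K) = v ^ b := by
    rw [orderOf_mk, hx, Art.P]
    rw [hx, Art.P]
    exact Nat.Coprime.pow_left _ ((Nat.Prime.coprime_iff_not_dvd hv).2 hvK)
  -- the factorization
  have hfac : c + g * Art.NN X = 2 * b := by
    have h1 := P_A4 h.hY h.hp2 hv hM.ne_two hM.ee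
    rw [Art.P, Art.P, ← pow_mul] at h1
    have h2 := Nat.pow_right_injective hv.two_le h1
    have h3 : (Nat.card G).factorization v = 0 + (S.index.factorization v + (Nat.card S).factorization v) := by
      rw [H360.Dp.card_eq (K := K) (S := S), Nat.factorization_mul Nat.card_pos.ne'
        (Nat.mul_ne_zero index_ne_zero_of_finite Nat.card_pos.ne'), Finsupp.add_apply,
        Nat.factorization_mul index_ne_zero_of_finite Nat.card_pos.ne', Finsupp.add_apply,
        Nat.factorization_eq_zero_of_not_dvd hvK]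
    have h4 : (Nat.card S).factorization v = g * Art.NN X := by
      have h5 := hX.P_self
      rw [Art.P, ← pow_mul] at h5
      exact Nat.pow_right_injective hv.two_le h5
    rw [h4] at h3
    show S.index.factorization v + g * Art.NN X = 2 * b
    have h6 : (Nat.card G).factorization v = b * 2 := h2
    omega
  -- `v ^ c ∣ g`
  have hcg : 5 * c ≤ g := by
    have h1 : v ^ c ∣ 24 * Art.dd X (v ^ g) * g := (Nat.ordProj_dvd S.index v).trans hc.hc.hI'
    have h2 : ¬ v ∣ Art.dd X (v ^ g) := by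
      intro h3
      have h4 : v ∣ v ^ g := dvd_pow_self v (by have := hX.hf; omega)
      have h5' : 1 ≤ v ^ g := Nat.one_le_pow _ _ hv.pos
      have key1 : ∀ n, v ∣ Nat.gcd n (v ^ g - 1) → False := fun n h6 => by
        have h7 := h6.trans (Nat.gcd_dvd_right _ _)
        have h8 := (Nat.dvd_sub_iff_right h5' h4).1 h7
        exact hv.one_lt.ne' (Nat.dvd_one.1 h8)
      have key2 : ∀ n, v ∣ Nat.gcd n (v ^ g + 1) → False := fun n h6 => by
        have h7 := h6.trans (Nat.gcd_dvd_right _ _)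
        have h8 := (Nat.dvd_add_right h4).1 h7
        exact hv.one_lt.ne' (Nat.dvd_one.1 h8)
      have key3 : ∀ n, 0 < n → n < 5 → ∀ m, v ∣ Nat.gcd n m → False := fun n hn0 hn m h6 => by
        have h7 := Nat.le_of_dvd hn0 (h6.trans (Nat.gcd_dvd_left _ _))
        omega
      cases X with
      | L n => exact key1 _ h3
      | C n => exact key3 2 (by norm_num) (by norm_num) _ h3
      | U n => exact key2 _ h3
      | D n => exact key3 4 (by norm_num) (by norm_num) _ h3
      | DD n => exact key3 4 (by norm_num) (by norm_num) _ h3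
      | E6 => exact key3 3 (by norm_num) (by norm_num) _ h3
      | E7 => exact key3 2 (by norm_num) (by norm_num) _ h3
      | TE6 => exact key3 3 (by norm_num) (by norm_num) _ h3
      | G2 => exact hv.one_lt.ne' (Nat.dvd_one.1 h3)
      | F4 => exact hv.one_lt.ne' (Nat.dvd_one.1 h3)
      | E8 => exact hv.one_lt.ne' (Nat.dvd_one.1 h3)
      | TD4 => exact hv.one_lt.ne' (Nat.dvd_one.1 h3)
      | Sz => exact hv.one_lt.ne' (Nat.dvd_one.1 h3)
      | Ree => exact hv.one_lt.ne' (Nat.dvd_one.1 h3)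
      | TF4 => exact hv.one_lt.ne' (Nat.dvd_one.1 h3)
    have h24 : ¬ v ∣ 24 := by
      intro h3
      have h4 : v ∣ 2 ^ 3 * 3 := h3
      rcases hv.dvd_mul.1 h4 with h6 | h6
      · have := Nat.le_of_dvd (by norm_num) (hv.dvd_of_dvd_pow h6)
        omega
      · have := Nat.le_of_dvd (by norm_num) h6
        omega
    have h3 : v ^ c ∣ g := by
      refine Nat.Coprime.dvd_of_dvd_mul_left ?_ h1
      apply Nat.Coprime.pow_left
      rw [Nat.Prime.coprime_iff_not_dvd hv, hv.dvd_mul, not_or]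
      exact ⟨h24, h2⟩
    have h4 := Nat.le_of_dvd hX.hf h3
    have h6 : 5 ^ c ≤ v ^ c := Nat.pow_le_pow_left h5 c
    rcases Nat.eq_zero_or_pos c with h0 | h0
    · omega
    · have : 5 * c ≤ 5 ^ c := by
        obtain ⟨k, hk⟩ := Nat.exists_eq_add_of_le' h0
        rw [hk, pow_succ]
        have := four_le k
        omega
      omega
  have hg1 := hX.hf
  have hNN : 3 ≤ Art.NN X := by
    have hok := hX.ok
    cases X with
    | L n =>
      have hn : 2 ≤ n := hok.1
      have hn' : n ≠ 2 := fun e => hX2 (by rw [e])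
      show 3 ≤ n * (n - 1) / 2
      rw [Nat.le_div_iff_mul_le (by norm_num)]
      calc 3 * 2 ≤ n * 2 := by omega
        _ ≤ _ := Nat.mul_le_mul_left _ (by omega)
    | C n =>
      have hn : 2 ≤ n := hok.1
      show 3 ≤ n ^ 2
      nlinarith
    | U n =>
      have hn : 3 ≤ n := hok.1
      show 3 ≤ n * (n - 1) / 2
      rw [Nat.le_div_iff_mul_le (by norm_num)]
      calc 3 * 2 ≤ n * 2 := by omega
        _ ≤ _ := Nat.mul_le_mul_left _ (by omega)
    | D n =>
      have hn : 4 ≤ n := hok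
      show 3 ≤ n * (n - 1)
      calc 3 ≤ n * 1 := by omega
        _ ≤ _ := Nat.mul_le_mul_left _ (by omega)
    | DD n =>
      have hn : 4 ≤ n := hok
      show 3 ≤ n * (n - 1)
      calc 3 ≤ n * 1 := by omega
        _ ≤ _ := Nat.mul_le_mul_left _ (by omega)
    | Sz =>
      have : v = 2 := hok.1
      omega
    | _ => decide
  -- the element of `S`
  rcases Nat.lt_or_ge c b with hlt | hge
  · obtain ⟨a, ha⟩ : ∃ a, b = c + (a + 1) := ⟨b - c - 1, by omega⟩
    have hyS := pow_mem_of (T := S) hv hx'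
    have hord : orderOf ((x : G ⧸ K) ^ v ^ c) = v ^ (a + 1) := by
      rw [orderOf_pow_of_dvd (pow_pos hv.pos _).ne' (by rw [hx']; exact pow_dvd_pow _ (by omega)), hx', ha,
        pow_add, Nat.mul_div_cancel_left _ (pow_pos hv.pos _)]
    obtain ⟨m, hm, hlim⟩ := exists_mat hg hreal hX h5
    have h6 := hm.lt hv (x := ⟨_, hyS⟩) (a := a) (by rw [← orderOf_coe]; exact hord)
    have h7 : 5 ^ a < m := lt_of_le_of_lt (Nat.pow_le_pow_left h5 a) h6
    rcases hlim a h7 with h8 | h8
    · subst h8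
      have h9 : g * 3 ≤ g * Art.NN X := Nat.mul_le_mul_left _ hNN
      omega
    · have h9 : g * (3 * (a + 1)) ≤ g * Art.NN X := Nat.mul_le_mul_left _ h8
      have h10 : g * (3 * (a + 1)) = 3 * (g * a) + 3 * g := by ring
      have h11 : a ≤ g * a := Nat.le_mul_of_pos_left _ hg1
      omega
  · have h9 : g * 3 ≤ g * Art.NN X := Nat.mul_le_mul_left _ hNN
    omega

end Cfsg.Agent.H200.DF
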